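import Groth.Agent.PairHensLib.Nbhd
import Groth.Agent.HenselLib.Perm

/-! The henselization of `R[X]` along `(X)` for a local ring `R`: constants, truncations, units. -/

set_option autoImplicit false
set_option linter.style.haveILetI false
universe u

noncomputable section

open Polynomial

namespace HensWeierLib

open PairHensLib

variable {R B : Type u} [CommRing R] [CommRing B] [Algebra R B] [Algebra R[X] B] [IsScalarTower R R[X] B]

variable (B) in
/-- The image of the variable. -/
abbrev var : B := algebraMap R[X] B (X : R[X])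

theorem map_span_X_pow (N : ℕ) :
    ((Ideal.span {(X : R[X])}) ^ N).map (algebraMap R[X] B) = Ideal.span {var (R := R) B ^ N} := by
  rw [Ideal.span_singleton_pow, Ideal.map_span, Set.image_singleton, map_pow]

theorem map_span_X : (Ideal.span {(X : R[X])}).map (algebraMap R[X] B) = Ideal.span {var (R := R) B} := by
  rw [Ideal.map_span, Set.image_singleton]

variable (hB : Hens2.IsPairHenselization R[X] (Ideal.span {(X : R[X])}) B)
include hB

theorem henselianRing : HenselianRing B (Ideal.span {var (R := R) B}) := by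
  rw [← map_span_X]; exact hB.1

theorem span_var_le_jacobson : Ideal.span {var (R := R) B} ≤ Ideal.jacobson (⊥ : Ideal B) := by
  haveI := henselianRing hB
  exact HenselianRing.jac

/-- Truncated expansion. -/
theorem exists_poly (b : B) (N : ℕ) :
    ∃ q : R[X], b - algebraMap R[X] B q ∈ Ideal.span {var (R := R) B ^ N} := by
  obtain ⟨z, hz⟩ := (quotientMap_bijective hB N).2 (Ideal.Quotient.mk _ b)
  obtain ⟨q, rfl⟩ := Ideal.Quotient.mk_surjective z
  rw [Ideal.quotientMap_mk, Ideal.Quotient.eq] at hz
  refine ⟨q, ?_⟩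
  rw [← map_span_X_pow, ← neg_sub]
  exact neg_mem hz

theorem exists_const (b : B) : ∃ r : R, b - algebraMap R B r ∈ Ideal.span {var (R := R) B} := by
  obtain ⟨q, hq⟩ := exists_poly hB b 1
  rw [pow_one] at hq
  refine ⟨q.coeff 0, ?_⟩
  have h : algebraMap R[X] B (X * q.divX) + algebraMap R B (q.coeff 0) = algebraMap R[X] B q := by
    rw [IsScalarTower.algebraMap_apply R R[X] B, ← map_add, Polynomial.algebraMap_eq, X_mul_divX_add]
  have h2 : algebraMap R[X] B (X * q.divX) ∈ Ideal.span {var (R := R) B} := by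
    rw [map_mul]; exact Ideal.mul_mem_right _ _ (Ideal.mem_span_singleton_self _)
  have := add_mem hq h2
  rw [← h] at this
  convert this using 1
  abel

theorem mem_of_poly {q : R[X]} {N : ℕ}
    (h : algebraMap R[X] B q ∈ Ideal.span {var (R := R) B ^ N}) : q ∈ Ideal.span {(X : R[X]) ^ N} := by
  rw [← Ideal.span_singleton_pow, ← Ideal.Quotient.eq_zero_iff_mem]
  refine (quotientMap_bijective hB N).1 ?_
  rw [Ideal.quotientMap_mk, map_zero, Ideal.Quotient.eq_zero_iff_mem, map_span_X_pow]
  exact h

/-- Coefficients of a truncated expansion modulo an ideal of the base. -/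
theorem coeff_mem {I : Ideal R} {q : R[X]} {N : ℕ}
    (h : algebraMap R[X] B q ∈ Ideal.span {var (R := R) B ^ N} ⊔ I.map (algebraMap R B)) :
    ∀ i < N, q.coeff i ∈ I := by
  have hle : Ideal.span {var (R := R) B ^ N} ⊔ I.map (algebraMap R B) =
      (Ideal.span {(X : R[X]) ^ N} ⊔ I.map (C : R →+* R[X])).map (algebraMap R[X] B) := by
    rw [Ideal.map_sup, Ideal.map_span, Set.image_singleton, map_pow, Ideal.map_map, ← Polynomial.algebraMap_eq,
      ← IsScalarTower.algebraMap_eq]
  let K := Ideal.span {(X : R[X]) ^ N} ⊔ I.map (C : R →+* R[X])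
  have hpow : (Ideal.span {(X : R[X])}) ^ N ≤ K := by rw [Ideal.span_singleton_pow]; exact le_sup_left
  have hq : q ∈ K := by
    let M := ((Ideal.span {(X : R[X])}) ^ N).map (algebraMap R[X] B)
    let θ := Ideal.quotientMap M (algebraMap R[X] B) Ideal.le_comap_map
    have h0 : algebraMap R[X] B q ∈ K.map (algebraMap R[X] B) := hle ▸ h
    have h1 : Ideal.Quotient.mk M (algebraMap R[X] B q) ∈ (K.map (Ideal.Quotient.mk ((Ideal.span {(X : R[X])}) ^ N))).map θ := by
      rw [Ideal.map_map, Ideal.quotientMap_comp_mk, ← Ideal.map_map]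
      exact Ideal.mem_map_of_mem _ h0
    obtain ⟨z, hz, hzq⟩ := (Ideal.mem_map_iff_of_surjective θ (quotientMap_bijective hB N).2).1 h1
    have h2 : z = Ideal.Quotient.mk _ q := (quotientMap_bijective hB N).1 (hzq.trans Ideal.quotientMap_mk.symm)
    rw [h2] at hz
    obtain ⟨k, hk, hkq⟩ := (Ideal.mem_map_iff_of_surjective _ Ideal.Quotient.mk_surjective).1 hz
    have h3 := sub_mem hk (hpow (Ideal.Quotient.eq.1 hkq))
    rwa [sub_sub_cancel] at h3
  intro i hi
  obtain ⟨a, ha, c, hc, rfl⟩ := Submodule.mem_sup.1 hq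
  obtain ⟨a', rfl⟩ := Ideal.mem_span_singleton'.1 ha
  rw [coeff_add, coeff_mul_X_pow', if_neg (by omega), zero_add]
  exact Ideal.mem_map_C_iff.1 hc i

theorem const_mem {I : Ideal R} {r : R}
    (h : algebraMap R B r ∈ Ideal.span {var (R := R) B} ⊔ I.map (algebraMap R B)) : r ∈ I := by
  have h' : algebraMap R[X] B (C r) ∈ Ideal.span {var (R := R) B ^ 1} ⊔ I.map (algebraMap R B) := by
    rwa [pow_one, ← Polynomial.algebraMap_eq, ← IsScalarTower.algebraMap_apply]
  simpa using coeff_mem hB h' 0 Nat.one_pos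

theorem isUnit_iff {b : B} {r : R} (h : b - algebraMap R B r ∈ Ideal.span {var (R := R) B}) :
    IsUnit b ↔ IsUnit r := by
  refine ⟨fun hb => ?_, fun hr => HenselLib.isUnit_of_sub_mem (span_var_le_jacobson hB) (hr.map _) h⟩
  obtain ⟨c, hc⟩ := isUnit_iff_exists_inv.1 hb
  obtain ⟨r', hr'⟩ := exists_const hB c
  refine IsUnit.of_mul_eq_one r' (sub_eq_zero.1 ?_)
  have h1 := add_mem (Ideal.mul_mem_right c _ h) (Ideal.mul_mem_left _ (algebraMap R B r) hr')
  refine Ideal.mem_bot.1 (const_mem hB (I := ⊥) ?_)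
  rw [Ideal.map_bot, sup_bot_eq, ← neg_mem_iff]
  convert h1 using 1
  simp only [map_sub, map_mul, map_one, ← hc]
  ring

variable [IsLocalRing R]

theorem isLocalRing : IsLocalRing B := by
  haveI : Nontrivial B := by
    by_contra hn
    rw [not_nontrivial_iff_subsingleton] at hn
    exact one_ne_zero (α := R) (Ideal.mem_bot.1 (const_mem hB (I := ⊥) (r := 1)
      (by rw [show algebraMap R B (1 : R) = 0 from Subsingleton.elim _ _]; exact zero_mem _)))
  refine IsLocalRing.of_isUnit_or_isUnit_one_sub_self fun b => ?_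
  obtain ⟨r, hr⟩ := exists_const hB b
  rcases IsLocalRing.isUnit_or_isUnit_one_sub_self r with h | h
  · exact Or.inl ((isUnit_iff hB hr).2 h)
  · refine Or.inr ((isUnit_iff hB (r := 1 - r) ?_).2 h)
    have := neg_mem hr
    convert this using 1
    simp only [map_sub, map_one]; ring

theorem var_mem_maximalIdeal [IsLocalRing B] : var (R := R) B ∈ IsLocalRing.maximalIdeal B := by
  refine (IsLocalRing.mem_maximalIdeal _).2 fun h => ?_
  exact not_isUnit_zero ((isUnit_iff hB (r := (0 : R)) (by rw [map_zero, sub_zero]; exact Ideal.mem_span_singleton_self _)).1 h)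

theorem map_maximalIdeal_le [IsLocalRing B] :
    (IsLocalRing.maximalIdeal R).map (algebraMap R B) ≤ IsLocalRing.maximalIdeal B :=
  Ideal.map_le_iff_le_comap.2 fun r hr => (IsLocalRing.mem_maximalIdeal _).2 fun h =>
    (IsLocalRing.mem_maximalIdeal _).1 hr ((isUnit_iff hB (r := r) (by rw [sub_self]; exact zero_mem _)).1 h)

/-- Elements congruent to `x^N` times a unit modulo the maximal ideal of the base. -/
theorem not_mem_of_var_pow {N : ℕ} (h : var (R := R) B ^ N ∈
    Ideal.span {var (R := R) B ^ (N + 1)} ⊔ (IsLocalRing.maximalIdeal R).map (algebraMap R B)) : False := by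
  have h' : algebraMap R[X] B (X ^ N) ∈
      Ideal.span {var (R := R) B ^ (N + 1)} ⊔ (IsLocalRing.maximalIdeal R).map (algebraMap R B) := by rwa [map_pow]
  have := coeff_mem hB h' N N.lt_succ_self
  rw [coeff_X_pow_self] at this
  exact (IsLocalRing.mem_maximalIdeal _).1 this isUnit_one

end HensWeierLib
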