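import Groth.Agent.HensWeierLib.Basic
import Groth.Agent.PairHensLib.Finite
import Groth.Agent.QfHensFiniteLib.Basic
import Mathlib.RingTheory.Filtration

/-! An element of the henselization of `R[X]` outside the special fibre has a finite zero scheme. -/

set_option autoImplicit false
set_option linter.style.haveILetI false
set_option maxHeartbeats 1000000
universe u

noncomputable section

open Polynomial IsLocalRing

namespace HensWeierLib

open PairHensLib

variable {R B : Type u} [CommRing R] [HenselianLocalRing R] [CommRing B] [Algebra R B] [Algebra R[X] B]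
  [IsScalarTower R R[X] B]

/-- An etale neighbourhood is polynomial modulo powers of the variable. -/
theorem exists_poly_nbhd {U : Type u} [CommRing U] [Algebra R[X] U]
    (hU : Function.Surjective (Ideal.quotientMap ((Ideal.span {(X : R[X])}).map (algebraMap R[X] U))
      (algebraMap R[X] U) Ideal.le_comap_map)) (n : ℕ) (u : U) :
    ∃ p : R[X], u - algebraMap R[X] U p ∈ Ideal.span {algebraMap R[X] U X ^ n} := by
  induction n generalizing u with
  | zero => exact ⟨0, by simp⟩
  | succ n ih =>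
    obtain ⟨r, hr⟩ := exists_sub_algebraMap_mem hU u
    rw [Ideal.map_span, Set.image_singleton] at hr
    obtain ⟨c, hc⟩ := Ideal.mem_span_singleton'.1 hr
    obtain ⟨p, hp⟩ := ih c
    obtain ⟨d, hd⟩ := Ideal.mem_span_singleton'.1 hp
    refine ⟨r + X * p, Ideal.mem_span_singleton'.2 ⟨d, ?_⟩⟩
    rw [pow_succ, ← mul_assoc, hd, map_add, map_mul, sub_mul, hc]
    ring

/-- The localized closed subscheme of a neighbourhood. -/
theorem exists_away_quotient {U : Type u} [CommRing U] [Algebra R[X] U] [Algebra R U] [IsScalarTower R R[X] U]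
    [Algebra.FiniteType R U] (ξ : U →ₐ[R[X]] B) {φ g : U} {f : B} (hφ : ξ φ = f) (hg : IsUnit (ξ g)) :
    ∃ (C : Type u) (_ : CommRing C) (_ : Algebra R[X] C) (_ : Algebra R C) (_ : IsScalarTower R R[X] C)
      (_ : Algebra.FiniteType R C) (_ : C →ₐ[R[X]] B ⧸ Ideal.span {f}) (j : U →ₐ[R[X]] C),
      j φ = 0 ∧ IsUnit (j g) ∧ ∀ z : C, ∃ (k : ℕ) (u : U), z * j g ^ k = j u := by
  haveI : Algebra.FiniteType R (Localization.Away g) := Algebra.FiniteType.trans (S := U) inferInstance inferInstance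
  haveI : Algebra.FiniteType R (Localization.Away g ⧸ Ideal.span {algebraMap U (Localization.Away g) φ}) :=
    Algebra.FiniteType.trans (S := Localization.Away g) inferInstance inferInstance
  let χW : Localization.Away g →ₐ[R[X]] B ⧸ Ideal.span {f} :=
    IsLocalization.Away.liftAlgHom g (f := (Ideal.Quotient.mkₐ R[X] (Ideal.span {f})).comp ξ)
      (hg.map (Ideal.Quotient.mkₐ R[X] (Ideal.span {f})))
  have hχW : ∀ z ∈ Ideal.span {algebraMap U (Localization.Away g) φ}, χW z = 0 := fun z hz => by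
    obtain ⟨e, rfl⟩ := Ideal.mem_span_singleton.1 hz
    have h0 : χW (algebraMap U _ φ) = 0 := by
      refine (IsLocalization.Away.lift_eq
        (g := ((Ideal.Quotient.mkₐ R[X] (Ideal.span {f})).comp ξ).toRingHom) g (hg.map (Ideal.Quotient.mk (Ideal.span {f}))) φ).trans ?_
      show Ideal.Quotient.mk _ (ξ φ) = 0
      rw [hφ]
      exact Ideal.Quotient.eq_zero_iff_mem.2 (Ideal.mem_span_singleton_self f)
    rw [map_mul, h0, zero_mul]
  refine ⟨_, inferInstance, inferInstance, inferInstance, inferInstance, ‹Algebra.FiniteType R (_ ⧸ _)›,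
    Ideal.Quotient.liftₐ _ χW hχW,
    (Ideal.Quotient.mkₐ R[X] _).comp (IsScalarTower.toAlgHom R[X] U (Localization.Away g)),
    Ideal.Quotient.eq_zero_iff_mem.2 (Ideal.mem_span_singleton_self _),
    (IsLocalization.Away.algebraMap_isUnit (S := Localization.Away g) g).map (Ideal.Quotient.mk _), fun z => ?_⟩
  obtain ⟨w, rfl⟩ := Ideal.Quotient.mk_surjective z
  obtain ⟨k, u, hu⟩ := IsLocalization.Away.surj g w
  have h3 := congrArg (Ideal.Quotient.mk (Ideal.span {algebraMap U (Localization.Away g) φ})) hu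
  rw [map_mul, map_pow] at h3
  exact ⟨k, u, h3⟩

/-- The special fibre is a quotient of a truncated polynomial ring. -/
theorem finite_special_fibre {U : Type u} [CommRing U] [Algebra R[X] U] (C : Type u) [CommRing C] [Algebra R[X] C]
    [Algebra R C] [IsScalarTower R R[X] C] (N : ℕ)
    (hXN : algebraMap R[X] C X ^ N ∈ (maximalIdeal R).map (algebraMap R C)) (g : U) (pg : R[X])
    (hc0 : IsUnit (pg.coeff 0)) (hpg : g - algebraMap R[X] U pg ∈ Ideal.span {algebraMap R[X] U X ^ (N + 1)})
    (hpoly : ∀ u : U, ∃ p : R[X], u - algebraMap R[X] U p ∈ Ideal.span {algebraMap R[X] U X ^ N})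
    (j : U →ₐ[R[X]] C) (hjg : IsUnit (j g)) (hjs : ∀ z : C, ∃ (k : ℕ) (u : U), z * j g ^ k = j u) :
    Module.Finite R (C ⧸ (maximalIdeal R).map (algebraMap R C)) := by
  generalize hm : (maximalIdeal R).map (algebraMap R C) = m at hXN ⊢
  let ψ0 : R[X] →ₐ[R] C ⧸ m := IsScalarTower.toAlgHom R R[X] (C ⧸ m)
  have h0 : algebraMap R[X] (C ⧸ m) X ^ N = 0 := by
    rw [IsScalarTower.algebraMap_apply R[X] C (C ⧸ m), ← map_pow, Ideal.Quotient.algebraMap_eq]
    exact Ideal.Quotient.eq_zero_iff_mem.2 hXN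
  have hψX : ∀ z ∈ Ideal.span {(X : R[X]) ^ N}, ψ0 z = 0 := fun z hz => by
    obtain ⟨e, rfl⟩ := Ideal.mem_span_singleton.1 hz
    rw [IsScalarTower.coe_toAlgHom', map_mul, map_pow, h0, zero_mul]
  let θ : R[X] ⧸ Ideal.span {(X : R[X]) ^ N} →ₐ[R] C ⧸ m := Ideal.Quotient.liftₐ _ ψ0 hψX
  have hrange : ∀ n u, N ≤ n → ∀ p, u - algebraMap R[X] U p ∈ Ideal.span {algebraMap R[X] U X ^ n} →
      Ideal.Quotient.mk m (j u) = θ (Ideal.Quotient.mk _ p) := fun n u hn p hp => by
    obtain ⟨e, he⟩ := Ideal.mem_span_singleton.1 hp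
    have h2 := congrArg (fun z => Ideal.Quotient.mk m (j z)) he
    simp only [map_mul, map_pow, map_sub, AlgHom.commutes] at h2
    have h3 : Ideal.Quotient.mk m (algebraMap R[X] C X) ^ n = 0 := pow_eq_zero_of_le hn h0
    rw [h3, zero_mul, sub_eq_zero] at h2
    exact h2
  have hpu : IsUnit (Ideal.Quotient.mk (Ideal.span {(X : R[X]) ^ N}) pg) := by
    rw [← X_mul_divX_add pg, map_add, map_mul]
    exact IsNilpotent.isUnit_add_right_of_commute ((Commute.all _ _).isNilpotent_mul_right ⟨N, by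
      rw [← map_pow, Ideal.Quotient.eq_zero_iff_mem]; exact Ideal.mem_span_singleton_self _⟩)
      ((hc0.map (Polynomial.C : R →+* R[X])).map _) (Commute.all _ _)
  have hθs : Function.Surjective θ := fun z => by
    obtain ⟨z', rfl⟩ := Ideal.Quotient.mk_surjective z
    obtain ⟨k, u, hu⟩ := hjs z'
    obtain ⟨p, hp⟩ := hpoly u
    obtain ⟨ug, hug⟩ := hpu
    refine ⟨Ideal.Quotient.mk (Ideal.span {(X : R[X]) ^ N}) p * (↑ug⁻¹ : R[X] ⧸ Ideal.span {(X : R[X]) ^ N}) ^ k, ((ug.isUnit.map θ).pow k).mul_left_injective ?_⟩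
    show θ _ * θ ↑ug ^ k = _ * θ ↑ug ^ k
    rw [← map_pow θ, ← map_mul θ, mul_assoc, ← mul_pow, Units.inv_mul, one_pow, mul_one, map_pow θ,
      ← hrange N u le_rfl p hp, hug, ← hrange (N + 1) g N.le_succ pg hpg, ← map_pow, ← map_mul, hu]
  haveI : Module.Finite R (R[X] ⧸ Ideal.span {(X : R[X]) ^ N}) := (monic_X_pow N).finite_quotient
  exact Module.Finite.of_surjective θ.toLinearMap hθs

/-- A chart of the zero scheme with finite special fibre. -/
theorem finite_of_chart (hB : Hens2.IsPairHenselization R[X] (Ideal.span {(X : R[X])}) B) {f : B}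
    [IsLocalRing (B ⧸ Ideal.span {f})] (C : Type u) [CommRing C] [Algebra R[X] C] [Algebra R C]
    [IsScalarTower R R[X] C] [Algebra.FiniteType R C] (χ : C →ₐ[R[X]] B ⧸ Ideal.span {f}) (N : ℕ)
    (hXN : algebraMap R[X] C X ^ N ∈ (maximalIdeal R).map (algebraMap R C))
    [Module.Finite R (C ⧸ (maximalIdeal R).map (algebraMap R C))] :
    Module.Finite R (B ⧸ Ideal.span {f}) := by
  haveI := isLocalRing hB
  let qC : Ideal C := (maximalIdeal (B ⧸ Ideal.span {f})).comap (χ : C →+* B ⧸ Ideal.span {f})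
  have hqC : qC.comap (algebraMap R C) = maximalIdeal R := by
    refine ((maximalIdeal.isMaximal R).eq_of_le (Ideal.IsPrime.ne_top inferInstance) fun r hr => ?_).symm
    show χ (algebraMap R C r) ∈ maximalIdeal _
    rw [show χ (algebraMap R C r) = Ideal.Quotient.mk _ (algebraMap R B r) from (χ.restrictScalars R).commutes r,
      mem_maximalIdeal, mem_nonunits_iff]
    haveI : IsLocalHom (Ideal.Quotient.mk (Ideal.span {f})) :=
      IsLocalHom.of_surjective _ Ideal.Quotient.mk_surjective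
    exact fun h => (mem_maximalIdeal _).1 (map_maximalIdeal_le hB (Ideal.mem_map_of_mem _ hr)) h.of_map
  haveI : Algebra.QuasiFiniteAt R qC :=
    quasiFiniteAt_of_quotient (A := R) (R := C) (I := maximalIdeal R) ⟨qC, inferInstance⟩
      (Ideal.map_le_iff_le_comap.2 hqC.ge)
  haveI : Module.Finite R (Localization.AtPrime qC) := QfHensFiniteLib.finite_atPrime qC hqC
  haveI hTm : HenselianRing (Localization.AtPrime qC)
      ((maximalIdeal R).map (algebraMap R (Localization.AtPrime qC))) := HenselLib.henselianRing_map_of_isIntegral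
  haveI hT : HenselianRing (Localization.AtPrime qC)
      ((Ideal.span {(X : R[X])}).map (algebraMap R[X] (Localization.AtPrime qC))) := by
    refine HenselLib.henselianRing_of_le_radical
      (J := (maximalIdeal R).map (algebraMap R (Localization.AtPrime qC))) ?_
    rw [Ideal.map_span, Set.image_singleton, Ideal.span_singleton_le_iff_mem]
    refine ⟨N, ?_⟩
    have h2 := Ideal.mem_map_of_mem (algebraMap C (Localization.AtPrime qC)) hXN
    rw [map_pow, Ideal.map_map, ← IsScalarTower.algebraMap_eq, ← IsScalarTower.algebraMap_apply] at h2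
    exact h2
  obtain ⟨g₀, hg₀, -⟩ := hB.2 _ _ (algebraMap R[X] (Localization.AtPrime qC)) hT le_rfl
  let χT : Localization.AtPrime qC →ₐ[R[X]] B ⧸ Ideal.span {f} :=
    IsLocalization.liftAlgHom (M := qC.primeCompl) (f := χ) fun y => notMem_maximalIdeal.1 y.2
  haveI := hB.1
  have hB' : HenselianRing (B ⧸ Ideal.span {f})
      (((Ideal.span {(X : R[X])}).map (algebraMap R[X] B)).map (algebraMap B (B ⧸ Ideal.span {f}))) :=
    HenselLib.henselianRing_map_of_isIntegral
  have hcomp : (χT : Localization.AtPrime qC →+* B ⧸ Ideal.span {f}).comp g₀ = Ideal.Quotient.mk _ := by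
    refine (hB.2 _ _ (algebraMap R[X] (B ⧸ Ideal.span {f})) hB' ?_).unique ?_ rfl
    · rw [Ideal.map_map, ← IsScalarTower.algebraMap_eq]
    · rw [RingHom.comp_assoc, hg₀]; exact χT.comp_algebraMap
  refine Module.Finite.of_surjective (χT.restrictScalars R).toLinearMap fun z => ?_
  obtain ⟨b, rfl⟩ := Ideal.Quotient.mk_surjective z
  exact ⟨g₀ b, RingHom.congr_fun hcomp b⟩

/-- The normal form modulo the maximal ideal, and finiteness of the zero scheme. -/
theorem exists_normal_form (hB : Hens2.IsPairHenselization R[X] (Ideal.span {(X : R[X])}) B) {f : B}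
    (hf : f ∉ (maximalIdeal R).map (algebraMap R B)) :
    ∃ (N : ℕ) (v : B), IsUnit v ∧ f - var (R := R) B ^ N * v ∈ (maximalIdeal R).map (algebraMap R B) ∧
      Module.Finite R (B ⧸ Ideal.span {f}) := by
  classical
  haveI := isLocalRing hB
  obtain ⟨U, _, _, _, ξ, hU, hfU⟩ := exists_nbhd hB {f}
  obtain ⟨φ, hφ⟩ := hfU f (Finset.mem_singleton_self f)
  letI : Algebra R U := ((algebraMap R[X] U).comp (algebraMap R R[X])).toAlgebra
  haveI : IsScalarTower R R[X] U := IsScalarTower.of_algebraMap_eq' rfl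
  haveI : Algebra.FiniteType R U := Algebra.FiniteType.trans (S := R[X]) inferInstance inferInstance
  have hξm : ∀ u ∈ (maximalIdeal R).map (algebraMap R U), ξ u ∈ (maximalIdeal R).map (algebraMap R B) := fun u hu => by
    have := Ideal.mem_map_of_mem ((ξ.restrictScalars R : U →ₐ[R] B) : U →+* B) hu
    rwa [Ideal.map_map, (ξ.restrictScalars R).comp_algebraMap] at this
  have hξX : ξ (algebraMap R[X] U X) = var (R := R) B := ξ.commutes X
  let q : Ideal U := (maximalIdeal B).comap (ξ : U →+* B)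
  have hqu : ∀ u, u ∉ q → IsUnit (ξ u) := fun u hu => notMem_maximalIdeal.1 hu
  let mU := (maximalIdeal R).map (algebraMap R U)
  have hmq : mU ≤ q := fun u hu => map_maximalIdeal_le hB (hξm u hu)
  letI : Field (R ⧸ maximalIdeal R) := Ideal.Quotient.field _
  letI : Algebra (R ⧸ maximalIdeal R) (U ⧸ mU) :=
    (Ideal.quotientMap mU (algebraMap R U) Ideal.le_comap_map).toAlgebra
  haveI : IsScalarTower R (R ⧸ maximalIdeal R) (U ⧸ mU) := IsScalarTower.of_algebraMap_eq fun r => rfl
  haveI : Algebra.FiniteType (R ⧸ maximalIdeal R) (U ⧸ mU) :=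
    Algebra.FiniteType.of_restrictScalars_finiteType R _ _
  haveI : IsNoetherianRing (U ⧸ mU) := Algebra.FiniteType.isNoetherianRing (R ⧸ maximalIdeal R) _
  let qb : Ideal (U ⧸ mU) := q.map (Ideal.Quotient.mk mU)
  haveI : qb.IsPrime := Ideal.map_isPrime_of_surjective Ideal.Quotient.mk_surjective (by rwa [Ideal.mk_ker])
  have hqb : ∀ u, Ideal.Quotient.mk mU u ∈ qb ↔ u ∈ q := fun u => by
    rw [← Ideal.mem_comap, Ideal.comap_map_of_surjective _ Ideal.Quotient.mk_surjective, ← RingHom.ker_eq_comap_bot,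
      Ideal.mk_ker, sup_eq_left.2 hmq]
  haveI : IsNoetherianRing (Localization.AtPrime qb) := IsLocalization.isNoetherianRing qb.primeCompl _ inferInstance
  let π : U →+* Localization.AtPrime qb := (algebraMap (U ⧸ mU) _).comp (Ideal.Quotient.mk mU)
  have hπ0 : ∀ u, π u = 0 → ∃ c ∉ q, c * u ∈ mU := fun u hu => by
    obtain ⟨⟨c', hc'⟩, hc⟩ := (IsLocalization.map_eq_zero_iff qb.primeCompl (Localization.AtPrime qb) _).1 hu
    obtain ⟨c, rfl⟩ := Ideal.Quotient.mk_surjective c'
    exact ⟨c, fun h => hc' ((hqb c).2 h), Ideal.Quotient.eq_zero_iff_mem.1 (by rw [map_mul]; exact hc)⟩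
  let xb := π (algebraMap R[X] U X)
  have hφ0 : π φ ≠ 0 := fun h => by
    obtain ⟨c, hc, hcφ⟩ := hπ0 φ h
    have h1 := hξm _ hcφ
    rw [map_mul, show ξ φ = f from hφ] at h1
    exact hf (((maximalIdeal R).map (algebraMap R B)).unit_mul_mem_iff_mem (hqu c hc) |>.1 h1)
  have hxb : Ideal.span {xb} ≠ ⊤ := by
    rw [Ne, Ideal.span_singleton_eq_top]
    intro h
    have h1 := (IsLocalization.AtPrime.isUnit_to_map_iff (Localization.AtPrime qb) qb _).1 h
    exact h1 ((hqb _).2 (by
      show ξ (algebraMap R[X] U X) ∈ maximalIdeal B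
      rw [hξX]; exact var_mem_maximalIdeal hB))
  have hex : ∃ n, π φ ∉ Ideal.span {xb} ^ n := by
    by_contra hne
    push_neg at hne
    have := Ideal.iInf_pow_eq_bot_of_isLocalRing (Ideal.span {xb}) hxb
    exact hφ0 ((Submodule.mem_bot _).1 (this ▸ (Submodule.mem_iInf _).2 hne))
  obtain ⟨N, hN, hN'⟩ : ∃ N, π φ ∈ Ideal.span {xb} ^ N ∧ π φ ∉ Ideal.span {xb} ^ (N + 1) := by
    obtain ⟨k, hk⟩ : ∃ k, Nat.find hex = k + 1 := Nat.exists_eq_succ_of_ne_zero fun h => by
      have := Nat.find_spec hex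
      rw [h, pow_zero, Ideal.one_eq_top] at this
      exact this trivial
    exact ⟨k, by_contra fun h => Nat.find_min hex (by omega) h, hk ▸ Nat.find_spec hex⟩
  rw [Ideal.span_singleton_pow] at hN hN'
  obtain ⟨w, hw⟩ := Ideal.mem_span_singleton.1 hN
  obtain ⟨⟨a', s'⟩, has⟩ := IsLocalization.surj qb.primeCompl w
  obtain ⟨a, rfl⟩ := Ideal.Quotient.mk_surjective a'
  obtain ⟨s, hs⟩ := Ideal.Quotient.mk_surjective (s' : U ⧸ mU)
  have hsq : s ∉ q := fun h => s'.2 (hs ▸ (hqb s).2 h)
  have hπs : IsUnit (π s) :=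
    (IsLocalization.AtPrime.isUnit_to_map_iff (Localization.AtPrime qb) qb _).2 fun h => hsq ((hqb s).1 h)
  have hπa : π φ * π s = xb ^ N * π a := by
    rw [hw, mul_assoc]
    congr 1
    simp only [π, RingHom.comp_apply]
    rw [hs]
    exact has
  have haq : a ∉ q := fun h => by
    obtain ⟨p, hp⟩ := exists_poly_nbhd hU.2 1 a
    rw [pow_one] at hp
    obtain ⟨d, hd⟩ := Ideal.mem_span_singleton'.1 hp
    have hr : p.coeff 0 ∈ maximalIdeal R := (mem_maximalIdeal _).2 fun hu => by
      refine (mem_maximalIdeal _).1 (h : ξ a ∈ maximalIdeal B) ((isUnit_iff hB (b := ξ a) ?_).2 hu)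
      refine Ideal.mem_span_singleton'.2 ⟨ξ d + algebraMap R[X] B p.divX, ?_⟩
      have e := congrArg ξ hd
      rw [map_mul, map_sub, hξX, ξ.commutes] at e
      have hp' : algebraMap R[X] B p = var (R := R) B * algebraMap R[X] B p.divX + algebraMap R B (p.coeff 0) := by
        rw [← map_mul, IsScalarTower.algebraMap_apply R R[X] B, ← map_add, Polynomial.algebraMap_eq, X_mul_divX_add]
      linear_combination e - hp'
    have h0 : π (algebraMap R U (p.coeff 0)) = 0 := by
      show algebraMap _ _ (Ideal.Quotient.mk mU _) = _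
      rw [Ideal.Quotient.eq_zero_iff_mem.2 (Ideal.mem_map_of_mem _ hr), map_zero]
    have ha : π a = xb * π (d + algebraMap R[X] U p.divX) := by
      have hp' : algebraMap R[X] U p = algebraMap R[X] U X * algebraMap R[X] U p.divX + algebraMap R U (p.coeff 0) := by
        rw [← map_mul, IsScalarTower.algebraMap_apply R R[X] U, ← map_add, Polynomial.algebraMap_eq, X_mul_divX_add]
      rw [show a = algebraMap R[X] U X * (d + algebraMap R[X] U p.divX) + algebraMap R U (p.coeff 0) by
        linear_combination -hd + hp', map_add, h0, add_zero, map_mul]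
    refine hN' (Ideal.mem_span_singleton.2 ?_)
    rw [← hπs.dvd_mul_right, hπa, ha]
    exact ⟨π (d + algebraMap R[X] U p.divX), by ring⟩
  obtain ⟨c, hc, hcm⟩ := hπ0 (φ * s - algebraMap R[X] U X ^ N * a)
    (by rw [map_sub, map_mul, map_mul, map_pow, hπa, sub_self])
  have hm : φ * (c * s) - algebraMap R[X] U X ^ N * (c * a) ∈ mU := by
    convert hcm using 1; ring
  have hcs : c * s ∉ q := fun h => (Ideal.IsPrime.mem_or_mem inferInstance h).elim hc hsq
  have hca : c * a ∉ q := fun h => (Ideal.IsPrime.mem_or_mem inferInstance h).elim hc haq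
  obtain ⟨us, hus⟩ := hqu _ hcs
  refine ⟨N, ξ (c * a) * ↑us⁻¹, (hqu _ hca).mul us⁻¹.isUnit, ?_, ?_⟩
  · have h1 := Ideal.mul_mem_right (↑us⁻¹ : B) _ (hξm _ hm)
    rw [map_sub, map_mul, show ξ φ = f from hφ, ← hus, sub_mul, Units.mul_inv_cancel_right, map_mul ξ (_ ^ N),
      map_pow, hξX] at h1
    convert h1 using 1; ring
  -- finiteness
  by_cases hfu : IsUnit f
  · haveI : Subsingleton (B ⧸ Ideal.span {f}) :=
      Ideal.Quotient.subsingleton_iff.2 (Ideal.span_singleton_eq_top.2 hfu)
    exact ⟨⟨∅, Subsingleton.elim _ _⟩⟩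
  haveI : Nontrivial (B ⧸ Ideal.span {f}) :=
    Ideal.Quotient.nontrivial_iff.2 (mt Ideal.span_singleton_eq_top.1 hfu)
  haveI : IsLocalRing (B ⧸ Ideal.span {f}) :=
    IsLocalRing.of_surjective' (Ideal.Quotient.mk (Ideal.span {f})) Ideal.Quotient.mk_surjective
  obtain ⟨C, _, _, _, _, _, χ, j, hjφ, hjg, hjs⟩ := exists_away_quotient ξ hφ (hqu _ hca)
  have hXN : algebraMap R[X] C X ^ N ∈ (maximalIdeal R).map (algebraMap R C) := by
    have h1 := Ideal.mem_map_of_mem ((j.restrictScalars R : U →ₐ[R] C) : U →+* C) hm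
    rw [Ideal.map_map, (j.restrictScalars R).comp_algebraMap] at h1
    have h2 : j (φ * (c * s) - algebraMap R[X] U X ^ N * (c * a)) ∈ (maximalIdeal R).map (algebraMap R C) := h1
    rw [map_sub, map_mul, hjφ, zero_mul, zero_sub, neg_mem_iff, map_mul, map_pow, j.commutes] at h2
    exact (Ideal.mul_unit_mem_iff_mem _ hjg).1 h2
  obtain ⟨pg, hpg⟩ := exists_poly_nbhd hU.2 (N + 1) (c * a)
  have hc0 : IsUnit (pg.coeff 0) := by
    refine (isUnit_iff hB (b := ξ (c * a)) ?_).1 (hqu _ hca)
    obtain ⟨e, he⟩ := Ideal.mem_span_singleton.1 hpg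
    refine Ideal.mem_span_singleton.2 ⟨var (R := R) B ^ N * ξ e + algebraMap R[X] B pg.divX, ?_⟩
    have h2 := congrArg ξ he
    simp only [map_mul, map_pow, map_sub, hξX, ξ.commutes] at h2
    have hp' : algebraMap R[X] B pg = var (R := R) B * algebraMap R[X] B pg.divX + algebraMap R B (pg.coeff 0) := by
      rw [← map_mul, IsScalarTower.algebraMap_apply R R[X] B, ← map_add, Polynomial.algebraMap_eq, X_mul_divX_add]
    rw [map_mul]
    linear_combination h2 + hp'
  haveI := finite_special_fibre C N hXN (c * a) pg hc0 hpg (fun u => exists_poly_nbhd hU.2 N u) j hjg hjs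
  exact finite_of_chart hB C χ N hXN

end HensWeierLib
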