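import Groth.Agent.HensWeierLib.Main

/-! Ideals avoiding the special fibre in `R[1/t]` and in the henselian Laurent ring. -/

set_option autoImplicit false
set_option linter.style.haveILetI false
set_option maxHeartbeats 1000000
universe u

noncomputable section

open Polynomial IsLocalRing

namespace HensWeierLib

variable {R B : Type u} [CommRing R] [HenselianLocalRing R] [CommRing B] [Algebra R B] [Algebra R[X] B]
  [IsScalarTower R R[X] B]

omit [HenselianLocalRing R] in
theorem reflect_reflect (N : ℕ) (p : R[X]) : reflect N (reflect N p) = p := by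
  ext i; rw [coeff_reflect, coeff_reflect, revAt_invol]

omit [HenselianLocalRing R] in
theorem natDegree_reflect_le' {N : ℕ} {p : R[X]} (h : p.natDegree ≤ N) : (reflect N p).natDegree ≤ N := by
  rw [natDegree_le_iff_coeff_eq_zero]
  intro i hi
  rw [coeff_reflect]
  refine coeff_eq_zero_of_natDegree_lt ?_
  rw [show revAt N i = i by rw [← revAtFun_eq, revAtFun, if_neg (by omega)]]
  omega

omit [HenselianLocalRing R] [Algebra R B] [IsScalarTower R R[X] B] in
theorem eval₂_mul_pow {S : Type u} [CommRing S] (i : R →+* S) {x y : S} (hxy : y * x = 1) (N : ℕ) (p : R[X])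
    (hp : p.natDegree ≤ N) : eval₂ i y (reflect N p) * x ^ N = eval₂ i x p := by
  letI : Invertible x := ⟨y, hxy, by rw [mul_comm]; exact hxy⟩
  exact eval₂_reflect_mul_pow i x N p hp

theorem coeff_sub_one_mem {h : R[X]} (hh : h - 1 ∈ (maximalIdeal R).map (algebraMap R R[X])) :
    (∀ i, 0 < i → h.coeff i ∈ maximalIdeal R) ∧ h.coeff 0 - 1 ∈ maximalIdeal R := by
  rw [Polynomial.algebraMap_eq, Ideal.mem_map_C_iff] at hh
  exact ⟨fun i hi => by simpa [coeff_one, hi.ne'] using hh i, by simpa using hh 0⟩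

/-- The reversal of a polynomial congruent to one is distinguished up to a unit. -/
theorem exists_dist {h : R[X]} (hh : h - 1 ∈ (maximalIdeal R).map (algebraMap R R[X])) :
    ∃ c : R, IsUnit c ∧ c * h.coeff 0 = 1 ∧ Dist (C c * reflect h.natDegree h) := by
  obtain ⟨hi, h0⟩ := coeff_sub_one_mem hh
  have hu : IsUnit (h.coeff 0) := IsLocalRing.notMem_maximalIdeal.1 fun h' =>
    (mem_maximalIdeal _).1 (by simpa using sub_mem h' h0 : (1 : R) ∈ maximalIdeal R) isUnit_one
  refine ⟨↑hu.unit⁻¹, Units.isUnit _, hu.val_inv_mul, ?_⟩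
  set d := h.natDegree
  have hdeg : (C (↑hu.unit⁻¹ : R) * reflect d h).natDegree ≤ d :=
    (natDegree_C_mul_le _ _).trans (natDegree_reflect_le' le_rfl)
  have hcd : (C (↑hu.unit⁻¹ : R) * reflect d h).coeff d = 1 := by
    rw [coeff_C_mul, coeff_reflect, revAt_le le_rfl, Nat.sub_self]; exact hu.val_inv_mul
  have hnd : (C (↑hu.unit⁻¹ : R) * reflect d h).natDegree = d :=
    natDegree_eq_of_le_of_coeff_ne_zero hdeg (by rw [hcd]; exact one_ne_zero)
  refine ⟨monic_of_natDegree_le_of_coeff_eq_one d hdeg hcd, fun i hlt => ?_⟩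
  rw [hnd] at hlt
  rw [coeff_C_mul, coeff_reflect, revAt_le hlt.le]
  exact Ideal.mul_mem_left _ _ (hi _ (by omega))

variable (hB : Hens2.IsPairHenselization R[X] (Ideal.span {(X : R[X])}) B)
  {L : Type u} [CommRing L] [Algebra B L] [Algebra R L] [IsScalarTower R B L]
  [IsLocalization.Away (algebraMap R[X] B X) L] (ψ : R[X] →ₐ[R] L)
  (hψ : ψ X * algebraMap B L (algebraMap R[X] B X) = 1)

include hψ in
omit [HenselianLocalRing R] [IsLocalization.Away (algebraMap R[X] B X) L] in
theorem psi_reflect (N : ℕ) (p : R[X]) (hp : p.natDegree ≤ N) :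
    ψ (reflect N p) * algebraMap B L (algebraMap R[X] B X) ^ N = algebraMap B L (algebraMap R[X] B p) := by
  have h1 : ∀ q, ψ q = eval₂ (algebraMap R L) (ψ X) q := fun q => by
    rw [← aeval_def, aeval_algHom_apply, aeval_X_left_apply]
  have h2 : ∀ q, algebraMap B L (algebraMap R[X] B q) =
      eval₂ (algebraMap R L) (algebraMap B L (algebraMap R[X] B X)) q := fun q => by
    let Φ : R[X] →ₐ[R] L := (IsScalarTower.toAlgHom R B L).comp (IsScalarTower.toAlgHom R R[X] B)
    show Φ q = _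
    rw [← aeval_def, show algebraMap B L (algebraMap R[X] B X) = Φ X from rfl, aeval_algHom_apply,
      aeval_X_left_apply]
  rw [h1, h2 p]
  exact eval₂_mul_pow _ hψ N p hp

include hB hψ

theorem exists_sub_mem {h : R[X]} (hh : h - 1 ∈ (maximalIdeal R).map (algebraMap R R[X])) (l : L) :
    ∃ q : R[X], l - ψ q ∈ Ideal.span {ψ h} := by
  obtain ⟨c, hc, hc0, hP⟩ := exists_dist hh
  set K := Ideal.span {ψ h}
  let y : R[X] := -(C c * h.divX)
  let x := algebraMap B L (algebraMap R[X] B X)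
  let θ : R[X] →ₐ[R] L ⧸ K := (Ideal.Quotient.mkₐ R K).comp ψ
  have hxy : Ideal.Quotient.mk K x = θ y := by
    refine Ideal.Quotient.eq.2 (Ideal.mem_span_singleton.2 ⟨x * algebraMap R L c, ?_⟩)
    have e : X * -(C c * h.divX) - 1 = -(C c * h) := by
      have e1 : C c * C (h.coeff 0) = 1 := by rw [← map_mul, hc0, map_one]
      have e2 := X_mul_divX_add h
      linear_combination (-C c) * e2 + e1
    have e3 := congrArg ψ e
    have hC : ψ (C c) = algebraMap R L c := ψ.commutes c
    show x - ψ (-(C c * h.divX)) = ψ h * (x * algebraMap R L c)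
    simp only [map_sub, map_one, map_mul, map_neg, hC] at e3 ⊢
    linear_combination (-x) * e3 - (algebraMap R L c * ψ h.divX) * hψ
  have hpoly : ∀ q : R[X], Ideal.Quotient.mk K (algebraMap B L (algebraMap R[X] B q)) = θ (aeval y q) := fun q => by
    refine AlgHom.congr_fun (φ₁ := (((Ideal.Quotient.mkₐ R K).comp (IsScalarTower.toAlgHom R B L)).comp
      (IsScalarTower.toAlgHom R R[X] B))) (φ₂ := θ.comp (aeval y)) (Polynomial.algHom_ext ?_) q
    show Ideal.Quotient.mk K x = θ (aeval y X)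
    rw [aeval_X]; exact hxy
  obtain ⟨n, b, hb⟩ := IsLocalization.Away.surj (algebraMap R[X] B X) l
  obtain ⟨q, hq⟩ := exists_poly_mod hB hP b
  refine ⟨aeval y q * X ^ n, Ideal.Quotient.eq.1 ?_⟩
  show _ = θ _
  rw [map_mul, ← hpoly, map_pow]
  have hP0 : Ideal.Quotient.mk K (algebraMap B L (algebraMap R[X] B (C c * reflect h.natDegree h))) = 0 := by
    rw [Ideal.Quotient.eq_zero_iff_mem]
    refine Ideal.mem_span_singleton.2 ⟨algebraMap R L c * x ^ h.natDegree, ?_⟩
    rw [map_mul, map_mul, ← psi_reflect ψ hψ _ _ (natDegree_reflect_le' le_rfl), reflect_reflect,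
      show algebraMap R[X] B (C c) = algebraMap R B c from (IsScalarTower.algebraMap_apply R R[X] B c).symm,
      ← IsScalarTower.algebraMap_apply]
    ring
  obtain ⟨e, he⟩ := Ideal.mem_span_singleton'.1 hq
  have h3 := congrArg (fun z => Ideal.Quotient.mk K (algebraMap B L z)) he
  simp only [map_mul, map_sub] at h3
  rw [← map_mul, ← map_mul] at h3
  simp only [map_mul] at h3
  have h4 : Ideal.Quotient.mk K (algebraMap B L (algebraMap R[X] B q)) = Ideal.Quotient.mk K (algebraMap B L b) := by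
    rw [← sub_eq_zero, ← h3]
    simp only [map_mul] at hP0
    rw [hP0, mul_zero]
  rw [h4, ← hb]
  show _ = _ * (Ideal.Quotient.mk K (ψ X)) ^ n
  simp only [map_mul, map_pow]
  rw [mul_assoc, ← mul_pow, ← map_mul (Ideal.Quotient.mk K), mul_comm (algebraMap B L _), hψ, map_one, one_pow,
    mul_one]

theorem mem_of_psi_mem {h q : R[X]} (hh : h - 1 ∈ (maximalIdeal R).map (algebraMap R R[X]))
    (hq : ψ q ∈ Ideal.span {ψ h}) : q ∈ Ideal.span {h} := by
  obtain ⟨c, hc, hc0, hP⟩ := exists_dist hh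
  set Q := Ideal.span {h}
  let mkQ := Ideal.Quotient.mkₐ R Q
  let y : R[X] := -(C c * h.divX)
  have hXy : mkQ X * mkQ y = 1 := by
    rw [← map_mul, ← map_one mkQ]
    refine Ideal.Quotient.eq.2 (Ideal.mem_span_singleton.2 ⟨-C c, ?_⟩)
    have e1 : C c * C (h.coeff 0) = 1 := by rw [← map_mul, hc0, map_one]
    have e2 := X_mul_divX_add h
    linear_combination (-C c) * e2 + e1
  have hroot : aeval (mkQ y) (C c * reflect h.natDegree h) = 0 := by
    rw [map_mul, aeval_def (R := R) (mkQ y) (reflect _ h),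
      ← eval₂_mul_pow _ hXy h.natDegree _ (natDegree_reflect_le' le_rfl), reflect_reflect, ← aeval_def,
      aeval_algHom_apply mkQ X h, aeval_X_left_apply,
      show mkQ h = 0 from Ideal.Quotient.eq_zero_iff_mem.2 (Ideal.mem_span_singleton_self h), zero_mul, mul_zero]
  obtain ⟨g, hg⟩ := exists_retraction hB hP
  let π : R[X] ⧸ Ideal.span {C c * reflect h.natDegree h} →ₐ[R] R[X] ⧸ Q :=
    Ideal.Quotient.liftₐ _ (aeval (mkQ y)) fun z hz => by
      obtain ⟨e, rfl⟩ := Ideal.mem_span_singleton.1 hz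
      rw [map_mul, hroot, zero_mul]
  let η : B →+* R[X] ⧸ Q := (π : _ →+* R[X] ⧸ Q).comp g
  have hη : ∀ p : R[X], η (algebraMap R[X] B p) = aeval (mkQ y) p := fun p => by
    show π ((g.comp (algebraMap R[X] B)) p) = _
    rw [hg]; rfl
  have hηu : IsUnit (η (algebraMap R[X] B X)) := by
    rw [hη, aeval_X]; exact IsUnit.of_mul_eq_one (mkQ X) (by rw [mul_comm]; exact hXy)
  let ηL : L →+* R[X] ⧸ Q := IsLocalization.Away.lift (algebraMap R[X] B X) hηu
  have hηL : ∀ b, ηL (algebraMap B L b) = η b := IsLocalization.Away.lift_eq _ _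
  have hcomp : ηL.comp (ψ : R[X] →+* L) = Ideal.Quotient.mk Q := by
    refine Polynomial.ringHom_ext (fun r => ?_) ?_
    · show ηL (ψ (algebraMap R R[X] r)) = _
      rw [ψ.commutes, IsScalarTower.algebraMap_apply R B L, hηL, IsScalarTower.algebraMap_apply R R[X] B, hη,
        AlgHom.commutes]
      rfl
    · show ηL (ψ X) = mkQ X
      refine left_inv_eq_right_inv (a := mkQ y) ?_ (by rw [mul_comm]; exact hXy)
      have := congrArg ηL hψ
      rwa [map_mul, map_one, hηL, hη, aeval_X] at this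
  rw [← Ideal.Quotient.eq_zero_iff_mem, ← hcomp]
  obtain ⟨e, he⟩ := Ideal.mem_span_singleton.1 hq
  show ηL (ψ q) = 0
  rw [he, map_mul, show ηL (ψ h) = 0 from (RingHom.congr_fun hcomp h).trans
    (Ideal.Quotient.eq_zero_iff_mem.2 (Ideal.mem_span_singleton_self h)), zero_mul]

/-- An ideal avoiding the special fibre contains a reversed distinguished polynomial. -/
theorem exists_mem_of_comaximal {J : Ideal L} (hJ : J ⊔ (maximalIdeal R).map (algebraMap R L) = ⊤) :
    ∃ h : R[X], ψ h ∈ J ∧ h - 1 ∈ (maximalIdeal R).map (algebraMap R R[X]) := by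
  let x := algebraMap R[X] B X
  obtain ⟨j, hj, e, he, hje⟩ := Submodule.mem_sup.1 ((Ideal.eq_top_iff_one _).1 hJ)
  obtain ⟨n, b, hb⟩ := IsLocalization.Away.surj x j
  have h1 : algebraMap B L (b - x ^ n) ∈ ((maximalIdeal R).map (algebraMap R B)).map (algebraMap B L) := by
    rw [Ideal.map_map, ← IsScalarTower.algebraMap_eq, map_sub, map_pow, ← hb,
      show j * algebraMap B L x ^ n - algebraMap B L x ^ n = -e * algebraMap B L x ^ n by
        linear_combination (algebraMap B L x ^ n) * hje]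
    exact Ideal.mul_mem_right _ _ (neg_mem he)
  rw [IsLocalization.algebraMap_mem_map_algebraMap_iff (Submonoid.powers x) L] at h1
  obtain ⟨s, ⟨M, rfl⟩, hM⟩ := h1
  let β := x ^ M * b
  have hβ : β ∉ (maximalIdeal R).map (algebraMap R B) := fun hβ => by
    refine not_mem_of_var_pow hB (N := M + n) (Ideal.mem_sup_right ?_)
    show x ^ (M + n) ∈ _
    rw [show x ^ (M + n) = β - x ^ M * (b - x ^ n) by simp only [β, pow_add]; ring]
    exact sub_mem hβ hM
  obtain ⟨P, u, hP, hPu⟩ := exists_prep hB hβ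
  refine ⟨reflect P.natDegree P, ?_, ?_⟩
  · have hβJ : algebraMap B L β ∈ J := by
      rw [map_mul, ← hb]; exact Ideal.mul_mem_left _ _ (Ideal.mul_mem_right _ _ hj)
    rw [hPu, map_mul, Ideal.mul_unit_mem_iff_mem _ (u.isUnit.map (algebraMap B L)),
      ← psi_reflect ψ hψ _ _ le_rfl,
      Ideal.mul_unit_mem_iff_mem _ ((IsUnit.of_mul_eq_one (ψ X) (by rw [mul_comm]; exact hψ)).pow _)] at hβJ
    exact hβJ
  · rw [Polynomial.algebraMap_eq, Ideal.mem_map_C_iff]
    intro i
    rw [coeff_sub, coeff_reflect, coeff_one]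
    rcases Nat.eq_zero_or_pos i with rfl | hi
    · rw [revAt_le (Nat.zero_le _), Nat.sub_zero, hP.1.coeff_natDegree, if_pos rfl, sub_self]; exact zero_mem _
    · rw [if_neg hi.ne', sub_zero]
      rcases le_or_gt i P.natDegree with hle | hlt
      · rw [revAt_le hle]; exact hP.2 _ (by omega)
      · rw [show revAt P.natDegree i = i by rw [← revAtFun_eq, revAtFun, if_neg (by omega)],
          coeff_eq_zero_of_natDegree_lt hlt]
        exact zero_mem _

theorem exists_mem_map_sub {I : Ideal R[X]} {h : R[X]} (hh : h - 1 ∈ (maximalIdeal R).map (algebraMap R R[X]))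
    {z : L} (hz : z ∈ I.map (ψ : R[X] →+* L)) : ∃ i ∈ I, z - ψ i ∈ Ideal.span {ψ h} := by
  induction hz using Submodule.span_induction with
  | mem v hv => obtain ⟨i, hi, rfl⟩ := hv; exact ⟨i, hi, by simp⟩
  | zero => exact ⟨0, zero_mem _, by simp⟩
  | add a b _ _ ha hb =>
    obtain ⟨i, hi, hia⟩ := ha
    obtain ⟨k, hk, hkb⟩ := hb
    refine ⟨i + k, add_mem hi hk, ?_⟩
    rw [map_add, show a + b - (ψ i + ψ k) = (a - ψ i) + (b - ψ k) by ring]
    exact add_mem hia hkb
  | smul t a _ ha =>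
    obtain ⟨i, hi, hia⟩ := ha
    obtain ⟨q, hq⟩ := exists_sub_mem hB ψ hψ hh t
    refine ⟨q * i, I.mul_mem_left _ hi, ?_⟩
    rw [map_mul, smul_eq_mul, show t * a - ψ q * ψ i = t * (a - ψ i) + (t - ψ q) * ψ i by ring]
    exact add_mem (Ideal.mul_mem_left _ _ hia) (Ideal.mul_mem_right _ _ hq)

end HensWeierLib
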