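import Groth.Agent.HensWeierLib.Finite
import Mathlib.RingTheory.Finiteness.Nakayama
import Mathlib.Algebra.Polynomial.Reverse

/-! Weierstrass preparation and division in the henselization of `R[X]` along `(X)`. -/

set_option autoImplicit false
set_option linter.style.haveILetI false
set_option maxHeartbeats 1000000
universe u

noncomputable section

open Polynomial IsLocalRing

namespace HensWeierLib

open PairHensLib

variable {R B : Type u} [CommRing R] [HenselianLocalRing R] [CommRing B] [Algebra R B] [Algebra R[X] B]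
  [IsScalarTower R R[X] B]

/-- A monic polynomial with non-leading coefficients in the maximal ideal. -/
abbrev Dist (P : R[X]) : Prop := P.Monic ∧ ∀ i : ℕ, i < P.natDegree → P.coeff i ∈ maximalIdeal R

theorem Dist.sub_X_pow_mem {P : R[X]} (hP : Dist P) :
    P - X ^ P.natDegree ∈ (maximalIdeal R).map (Polynomial.C : R →+* R[X]) := by
  rw [Ideal.mem_map_C_iff]
  intro i
  rw [coeff_sub, coeff_X_pow]
  rcases lt_trichotomy i P.natDegree with h | rfl | h
  · rw [if_neg h.ne, sub_zero]; exact hP.2 i h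
  · rw [if_pos rfl, hP.1.coeff_natDegree, sub_self]; exact zero_mem _
  · rw [if_neg h.ne', coeff_eq_zero_of_natDegree_lt h, sub_zero]; exact zero_mem _

/-- The variable is topologically nilpotent modulo a distinguished polynomial. -/
theorem Dist.henselianRing {P : R[X]} (hP : Dist P) :
    HenselianRing (R[X] ⧸ Ideal.span {P})
      ((Ideal.span {(X : R[X])}).map (algebraMap R[X] (R[X] ⧸ Ideal.span {P}))) := by
  haveI : Module.Finite R (R[X] ⧸ Ideal.span {P}) := hP.1.finite_quotient
  haveI hTm : HenselianRing (R[X] ⧸ Ideal.span {P})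
      ((maximalIdeal R).map (algebraMap R (R[X] ⧸ Ideal.span {P}))) := HenselLib.henselianRing_map_of_isIntegral
  refine HenselLib.henselianRing_of_le_radical
    (J := (maximalIdeal R).map (algebraMap R (R[X] ⧸ Ideal.span {P}))) ?_
  rw [Ideal.map_span, Set.image_singleton, Ideal.span_singleton_le_iff_mem]
  refine ⟨P.natDegree, ?_⟩
  have h := Ideal.mem_map_of_mem (algebraMap R[X] (R[X] ⧸ Ideal.span {P})) hP.sub_X_pow_mem
  rw [Ideal.map_map, ← Polynomial.algebraMap_eq, ← IsScalarTower.algebraMap_eq, map_sub, map_pow] at h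
  have h0 : algebraMap R[X] (R[X] ⧸ Ideal.span {P}) P = 0 :=
    Ideal.Quotient.eq_zero_iff_mem.2 (Ideal.mem_span_singleton_self P)
  rwa [h0, zero_sub, neg_mem_iff] at h

variable (hB : Hens2.IsPairHenselization R[X] (Ideal.span {(X : R[X])}) B)
include hB

/-- Reduction modulo a distinguished polynomial extends to the henselization. -/
theorem exists_retraction {P : R[X]} (hP : Dist P) :
    ∃ g : B →+* R[X] ⧸ Ideal.span {P}, g.comp (algebraMap R[X] B) = Ideal.Quotient.mk _ := by
  obtain ⟨g, hg, -⟩ := hB.2 _ _ (algebraMap R[X] (R[X] ⧸ Ideal.span {P})) hP.henselianRing le_rfl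
  exact ⟨g, hg⟩

theorem mem_span_of_algebraMap_mem {P q : R[X]} (hP : Dist P)
    (h : algebraMap R[X] B q ∈ Ideal.span {algebraMap R[X] B P}) : q ∈ Ideal.span {P} := by
  obtain ⟨g, hg⟩ := exists_retraction hB hP
  obtain ⟨c, hc⟩ := Ideal.mem_span_singleton'.1 h
  rw [← Ideal.Quotient.eq_zero_iff_mem, ← hg, RingHom.comp_apply, ← hc, map_mul]
  rw [← RingHom.comp_apply g, hg, Ideal.Quotient.eq_zero_iff_mem.2 (Ideal.mem_span_singleton_self P), mul_zero]

/-- Weierstrass division. -/
theorem exists_poly_mod {P : R[X]} (hP : Dist P) (b : B) :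
    ∃ q : R[X], algebraMap R[X] B q - b ∈ Ideal.span {algebraMap R[X] B P} := by
  let K := Ideal.span {algebraMap R[X] B P}
  obtain ⟨g, hg⟩ := exists_retraction hB hP
  let ι : R[X] ⧸ Ideal.span {P} →+* B ⧸ K := Ideal.quotientMap K (algebraMap R[X] B) (by
    rw [← Ideal.map_le_iff_le_comap, Ideal.map_span, Set.image_singleton])
  haveI := hB.1
  have hB' : HenselianRing (B ⧸ K)
      (((Ideal.span {(X : R[X])}).map (algebraMap R[X] B)).map (algebraMap B (B ⧸ K))) :=
    HenselLib.henselianRing_map_of_isIntegral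
  have hcomp : ι.comp g = Ideal.Quotient.mk K := by
    refine (hB.2 _ _ (algebraMap R[X] (B ⧸ K)) hB' ?_).unique ?_ rfl
    · rw [Ideal.map_map, ← IsScalarTower.algebraMap_eq]
    · rw [RingHom.comp_assoc, hg]; rfl
  obtain ⟨q, hq⟩ := Ideal.Quotient.mk_surjective (g b)
  refine ⟨q, Ideal.Quotient.eq.1 ?_⟩
  have := RingHom.congr_fun hcomp b
  rw [RingHom.comp_apply, ← hq, Ideal.quotientMap_mk] at this
  exact this

theorem dist_injective {P : R[X]} (hP : P.Monic) {b c : B}
    (h : algebraMap R[X] B P * b = algebraMap R[X] B P * c) : b = c := by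
  haveI := flat_of_isPairHenselization hB
  have hreg : IsSMulRegular R[X] P := isLeftRegular_iff.1 hP.isRegular.left
  have := hreg.of_flat (S := B)
  exact this (by simpa [Algebra.smul_def] using h)

/-- Weierstrass preparation. -/
theorem exists_prep {f : B} (hf : f ∉ (maximalIdeal R).map (algebraMap R B)) :
    ∃ (P : R[X]) (u : Bˣ), Dist P ∧ f = algebraMap R[X] B P * (u : B) := by
  obtain ⟨N, v, hv, hfv, hfin⟩ := exists_normal_form hB hf
  haveI := hfin
  haveI := isLocalRing hB
  let x := var (R := R) B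
  let mB := (maximalIdeal R).map (algebraMap R B)
  let S : Submodule R (B ⧸ Ideal.span {f}) :=
    (Polynomial.degreeLT R N).map (IsScalarTower.toAlgHom R R[X] (B ⧸ Ideal.span {f})).toLinearMap
  have hxN : x ^ N ∈ Ideal.span {f} ⊔ mB := by
    have h1 : x ^ N * v ∈ Ideal.span {f} ⊔ mB := by
      rw [show x ^ N * v = f - (f - x ^ N * v) by ring]
      exact sub_mem (Ideal.mem_sup_left (Ideal.mem_span_singleton_self f)) (Ideal.mem_sup_right hfv)
    exact (Ideal.mul_unit_mem_iff_mem _ hv).1 h1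
  have hS : ⊤ ≤ S ⊔ (maximalIdeal R) • (⊤ : Submodule R (B ⧸ Ideal.span {f})) := fun z _ => by
    obtain ⟨b, rfl⟩ := Ideal.Quotient.mk_surjective z
    obtain ⟨q, hq⟩ := exists_poly hB b N
    have hdeg : q %ₘ (X ^ N) ∈ Polynomial.degreeLT R N := by
      rw [Polynomial.mem_degreeLT]
      exact (degree_modByMonic_lt q (monic_X_pow N)).trans_le (degree_X_pow_le N)
    have h1 : b - algebraMap R[X] B (q %ₘ (X ^ N)) ∈ Ideal.span {f} ⊔ mB := by
      have hq' : algebraMap R[X] B q = algebraMap R[X] B (q %ₘ (X ^ N)) + x ^ N * algebraMap R[X] B (q /ₘ (X ^ N)) := by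
        conv_lhs => rw [← modByMonic_add_div q (X ^ N)]
        rw [map_add, map_mul, map_pow]
      obtain ⟨e, he⟩ := Ideal.mem_span_singleton'.1 hq
      rw [show b - algebraMap R[X] B (q %ₘ (X ^ N)) = x ^ N * (algebraMap R[X] B (q /ₘ (X ^ N)) + e) by
        linear_combination hq' - he]
      exact Ideal.mul_mem_right _ _ hxN
    obtain ⟨s, hs, t, ht, hst⟩ := Submodule.mem_sup.1 h1
    refine Submodule.mem_sup.2 ⟨_, Submodule.mem_map_of_mem hdeg, Ideal.Quotient.mk _ t, ?_, ?_⟩
    · rw [Ideal.smul_top_eq_map, Submodule.restrictScalars_mem]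
      have := Ideal.mem_map_of_mem (Ideal.Quotient.mk (Ideal.span {f})) ht
      rwa [Ideal.map_map] at this
    · have h2 := congrArg (Ideal.Quotient.mk (Ideal.span {f})) hst
      rw [map_add, Ideal.Quotient.eq_zero_iff_mem.2 hs, zero_add, map_sub] at h2
      rw [h2]
      show Ideal.Quotient.mk _ (algebraMap R[X] B _) + _ = _
      abel
  have htop : ⊤ ≤ S := Submodule.le_of_le_smul_of_le_jacobson_bot Module.Finite.fg_top
    (IsLocalRing.maximalIdeal_le_jacobson ⊥) hS
  obtain ⟨r, hr, hrx⟩ := htop (Submodule.mem_top : Ideal.Quotient.mk (Ideal.span {f}) (x ^ N) ∈ _)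
  have hrdeg : r.degree < N := Polynomial.mem_degreeLT.1 hr
  have hmem : algebraMap R[X] B (X ^ N - r) ∈ Ideal.span {f} := by
    rw [← Ideal.Quotient.eq_zero_iff_mem, map_sub, map_sub, sub_eq_zero, map_pow]
    exact hrx.symm
  have hcoef : ∀ i < N, (X ^ N - r).coeff i ∈ maximalIdeal R := by
    refine coeff_mem hB (SetLike.le_def.1 ?_ hmem)
    rw [Ideal.span_singleton_le_iff_mem, show f = x ^ N * v + (f - x ^ N * v) by ring]
    exact Ideal.add_mem _ (Ideal.mem_sup_left (Ideal.mul_mem_right _ _ (Ideal.mem_span_singleton_self _)))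
      (Ideal.mem_sup_right hfv)
  have hmonic : (X ^ N - r).Monic := monic_X_pow_sub hrdeg
  have hnd : (X ^ N - r).natDegree = N := by
    refine natDegree_eq_of_degree_eq_some ?_
    rw [degree_sub_eq_left_of_degree_lt (by rwa [degree_X_pow]), degree_X_pow]
  have hP : Dist (X ^ N - r) := ⟨hmonic, fun i hi => hcoef i (hnd ▸ hi)⟩
  obtain ⟨u', hu'⟩ := Ideal.mem_span_singleton'.1 hmem
  have hPm : algebraMap R[X] B (X ^ N - r) - x ^ N ∈ mB := by
    have h := Ideal.mem_map_of_mem (algebraMap R[X] B) hP.sub_X_pow_mem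
    rw [Ideal.map_map, ← Polynomial.algebraMap_eq, ← IsScalarTower.algebraMap_eq, hnd, map_sub, map_pow] at h
    exact h
  have hu : IsUnit u' := by
    by_contra hun
    obtain ⟨c, hc⟩ := exists_const hB u'
    have hcm : c ∈ maximalIdeal R := (mem_maximalIdeal _).2 fun h => hun ((isUnit_iff hB hc).2 h)
    obtain ⟨e, he⟩ := Ideal.mem_span_singleton'.1 hc
    refine not_mem_of_var_pow hB (N := N) ?_
    show x ^ N ∈ _
    rw [show x ^ N = x ^ (N + 1) * (e * v) + (u' * (f - x ^ N * v) - (algebraMap R[X] B (X ^ N - r) - x ^ N) +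
        algebraMap R B c * (x ^ N * v)) by
      linear_combination -hu' - (x ^ N * v) * he]
    exact Ideal.add_mem _ (Ideal.mem_sup_left (Ideal.mul_mem_right _ _ (Ideal.mem_span_singleton_self _)))
      (Ideal.mem_sup_right (Ideal.add_mem _ (sub_mem (Ideal.mul_mem_left _ _ hfv) hPm)
        (Ideal.mul_mem_right _ _ (Ideal.mem_map_of_mem _ hcm))))
  refine ⟨X ^ N - r, hu.unit⁻¹, hP, ?_⟩
  rw [← hu', mul_comm u' f, mul_assoc, IsUnit.mul_val_inv, mul_one]

end HensWeierLib
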